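import Groth.Agent.S14451
import Groth.Agent.EtCechInjLib.Delta
import Groth.Agent.EtShLib.FlasquePush
import Groth.Agent.EtContLib.Push
import Groth.Agent.CdLerayBoundLib.Basic
import Groth.Prelude.Def_EtBase

/-!
# The edge map of the Leray spectral sequence in a range of degrees
-/

set_option autoImplicit false
set_option linter.all false
set_option backward.isDefEq.respectTransparency false
set_option backward.isDefEq.respectTransparency.types false
set_option synthInstance.maxHeartbeats 400000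
set_option maxHeartbeats 1000000

universe u

open CategoryTheory CategoryTheory.Limits AlgebraicGeometry Opposite CategoryTheory.Abelian
open Groth.Agent Groth.Agent.EtShLib EtContLib

noncomputable section

namespace NearbySpecLib

variable {X Y : Scheme.{u}} (f : X ⟶ Y) [PreservesFiniteLimits (EtCoh.pull f)]

theorem HofPush_mk₀ (M : EtCoh.Ab X) (φ : EtCoh.const Y ℤ ⟶ (EtCoh.push f).obj M) :
    EtLim.HofPush f M 0 (Ext.mk₀ φ) = Ext.mk₀ ((EtCore.pullConst f ℤ).inv ≫ adjL f φ) := by
  haveI : PreservesFiniteColimits (EtCoh.pull f) := EtCore.pull_preservesFiniteColimits f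
  have hφ : adjL f φ = (EtCoh.pull f).map φ ≫ (EtCoh.pullPushAdj f).counit.app M :=
    Adjunction.homEquiv_counit _ _ _ _
  show ((Ext.mk₀ (EtCore.pullConst f ℤ).inv).comp (Ext.mapExactFunctor (EtCoh.pull f) (Ext.mk₀ φ)) (zero_add 0)).comp
    (Ext.mk₀ ((EtCoh.pullPushAdj f).counit.app M)) (add_zero 0) = _
  rw [Ext.mapExactFunctor_mk₀, Ext.mk₀_comp_mk₀, Ext.mk₀_comp_mk₀, hφ, Category.assoc]

theorem bijective_HofPush_zero (M : EtCoh.Ab X) : Function.Bijective (EtLim.HofPush f M 0) := by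
  constructor
  · intro a b h
    obtain ⟨φ, rfl⟩ := exists_mk₀ a
    obtain ⟨ψ, rfl⟩ := exists_mk₀ b
    rw [HofPush_mk₀, HofPush_mk₀] at h
    have h' := (Ext.mk₀_bijective _ _).1 h
    rw [cancel_epi] at h'
    rw [((EtCoh.pullPushAdj f).homEquiv _ _).symm.injective h']
  · intro c
    obtain ⟨g, rfl⟩ := exists_mk₀ c
    refine ⟨Ext.mk₀ ((EtCoh.pullPushAdj f).homEquiv _ _ ((EtCore.pullConst f ℤ).hom ≫ g)), ?_⟩
    rw [HofPush_mk₀, adjL, Equiv.symm_apply_apply, Iso.inv_hom_id_assoc]

/-- Naturality of the edge map. -/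
theorem HofPush_nat {M M' : EtCoh.Ab X} {G : EtCoh.Ab Y} (α : G ⟶ (EtCoh.push f).obj M) (φ : M ⟶ M') (n : ℕ)
    (x : EtCoh.H Y G n) :
    EtLim.HofPush f M' n (x.comp (Ext.mk₀ (α ≫ (EtCoh.push f).map φ)) (add_zero n)) =
      (EtLim.HpullThen f G (adjL f α) n x).comp (Ext.mk₀ φ) (add_zero n) := by
  rw [HofPush_eq]
  exact HpullThen_postcomp f α (𝟙 _) _ φ (Category.comp_id _) n x

/-- The edge map is surjective from the degree from which on the terms off the bottom row vanish,
and injective after it. -/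
theorem edge_range : ∀ (n : ℕ) (M : EtCoh.Ab X) (N : ℕ),
    (∀ q p, 1 ≤ q → N ≤ p + q → Subsingleton (EtCoh.H Y ((EtCoh.Rpush f q).obj M) p)) →
      (N ≤ n → Function.Surjective (EtLim.HofPush f M n)) ∧
      ((N < n ∨ n ≤ 1) → Function.Injective (EtLim.HofPush f M n)) := by
  haveI : (EtCoh.push f).Additive := { }
  haveI : PreservesLimitsOfSize.{0, 0} (EtCoh.push f) := (EtCoh.pullPushAdj f).rightAdjoint_preservesLimits
  haveI : PreservesFiniteLimits (EtCoh.push f) := PreservesLimitsOfSize.preservesFiniteLimits _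
  intro n
  induction n with
  | zero =>
    exact fun M N _ => ⟨fun _ => (bijective_HofPush_zero f M).2, fun _ => (bijective_HofPush_zero f M).1⟩
  | succ n ih =>
    intro M N hE
    let ip := (EnoughInjectives.presentation M).some
    haveI : Injective ip.J := ip.injective
    let T : ShortComplex (EtCoh.Ab X) := ShortComplex.mk ip.f (cokernel.π ip.f) (cokernel.condition _)
    have hT : T.ShortExact := { exact := ShortComplex.exact_of_g_is_cokernel _ (cokernelIsCokernel _) }
    haveI : Injective T.X₂ := ip.injective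
    let D := EtCechInjLib.derDelta (EtCoh.push f)
    have hI : ∀ q : ℕ, IsZero ((D.F (q + 1)).obj T.X₂) := fun q =>
      Functor.isZero_rightDerived_obj_injective_succ _ q _
    have hδ : ∀ q : ℕ, IsIso (D.δ hT (q + 1)) := fun q => by
      haveI : Mono (D.δ hT (q + 1)) := (D.exact₃ hT (q + 1)).mono_g ((hI q).eq_of_src _ _)
      haveI : Epi (D.δ hT (q + 1)) := (D.exact₁ hT (q + 1)).epi_f ((hI (q + 1)).eq_of_tgt _ _)
      exact isIso_of_mono_of_epi _
    let r := (EtCoh.push f).rightDerivedZeroIsoSelf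
    let d : (EtCoh.push f).obj T.X₃ ⟶ (D.F 1).obj T.X₁ := r.inv.app T.X₃ ≫ D.δ hT 0
    have hgd : (EtCoh.push f).map T.g ≫ d = 0 := by
      show _ ≫ r.inv.app _ ≫ _ = 0
      rw [← Category.assoc, r.inv.naturality, Category.assoc]
      erw [D.map_comp_δ hT 0]
      rw [comp_zero]
    have hex : (ShortComplex.mk _ _ hgd).Exact := by
      refine (ShortComplex.exact_iff_of_iso ?_).1 (D.exact₃ hT 0)
      exact ShortComplex.isoMk (r.app T.X₂) (r.app T.X₃) (Iso.refl _) (r.hom.naturality T.g).symm (by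
        show r.hom.app T.X₃ ≫ r.inv.app T.X₃ ≫ D.δ hT 0 = D.δ hT 0 ≫ 𝟙 _
        rw [Iso.hom_inv_id_app_assoc, Category.comp_id])
    haveI : Epi (D.δ hT 0) := (D.exact₁ hT 0).epi_f ((hI 0).eq_of_tgt _ _)
    haveI : Epi d := epi_comp _ _
    let S₂ : ShortComplex (EtCoh.Ab Y) := ShortComplex.mk (kernel.ι d) d (kernel.condition d)
    have hS₂ : S₂.ShortExact :=
      { exact := ShortComplex.exact_of_f_is_kernel _ (kernelIsKernel _)
        mono_f := inferInstanceAs (Mono (kernel.ι d))
        epi_g := inferInstanceAs (Epi d) }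
    let S₁ : ShortComplex (EtCoh.Ab Y) := ShortComplex.mk ((EtCoh.push f).map T.f)
      (kernel.lift d ((EtCoh.push f).map T.g) hgd) ((cancel_mono (kernel.ι d)).1 (by
        rw [Category.assoc, kernel.lift_ι, zero_comp, ← Functor.map_comp, T.zero, Functor.map_zero]))
    haveI := hT.mono_f
    haveI : Mono ((EtCoh.push f).map T.f) := inferInstance
    have hS₁ : S₁.ShortExact :=
      { exact := by
          haveI : Mono (T.map (EtCoh.push f)).f := inferInstanceAs (Mono ((EtCoh.push f).map T.f))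
          have hk := (hT.exact.map_of_mono_of_preservesKernel (EtCoh.push f) hT.mono_f inferInstance).fIsKernel
          refine ShortComplex.exact_of_f_is_kernel _ ?_
          exact KernelFork.IsLimit.ofι' _ _ fun t ht =>
            ⟨hk.lift (KernelFork.ofι t (by
                show t ≫ (EtCoh.push f).map T.g = 0
                rw [← kernel.lift_ι d ((EtCoh.push f).map T.g) hgd, ← Category.assoc, ht, zero_comp])),
              hk.fac _ WalkingParallelPair.zero⟩
        mono_f := inferInstanceAs (Mono ((EtCoh.push f).map T.f))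
        epi_g := hex.epi_kernelLift }
    haveI : Injective S₁.X₂ := EtShLib.injective_push f T.X₂
    -- the square
    have key : ∀ x : EtCoh.H Y S₁.X₃ n, EtLim.HofPush f T.X₁ (n + 1) (x.comp hS₁.extClass rfl) =
        Ext.comp (EtLim.HofPush f T.X₃ n (x.comp (Ext.mk₀ (kernel.ι d)) (add_zero n))) hT.extClass rfl := fun x => by
      have h := HpullThen_delta f hS₁ hT (𝟙 _) (𝟙 _) (kernel.ι d) (by simp [S₁]) (by simp [S₁]) x
      refine ((HofPush_eq f T.X₁ (n + 1) _).trans h).trans ?_
      have h' := HofPush_nat f (kernel.ι d) (𝟙 T.X₃) n x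
      rw [CategoryTheory.Functor.map_id, Category.comp_id, Ext.comp_mk₀_id] at h'
      rw [← h']
    have hC : ∀ q p, 1 ≤ q → N - 1 ≤ p + q → Subsingleton (EtCoh.H Y ((EtCoh.Rpush f q).obj T.X₃) p) := by
      intro q p hq hpq
      obtain ⟨q, rfl⟩ : ∃ m, q = m + 1 := ⟨q - 1, by omega⟩
      haveI := hδ q
      have h := hE (q + 1 + 1) p (by omega) (by omega)
      exact @Equiv.subsingleton _ _ (((EtCoh.HF Y p).mapIso (asIso (D.δ hT (q + 1)))).addCommGroupIsoToAddEquiv).toEquiv h
    obtain ⟨ihs, ihi⟩ := ih T.X₃ (N - 1) hC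
    refine ⟨fun hn z => ?_, fun hn => ?_⟩
    · obtain ⟨y, rfl⟩ := Ext.covariant_sequence_exact₁ _ hT (z : Ext.{u + 1} _ T.X₁ (n + 1))
        (Ext.eq_zero_of_injective _) (n₀ := n) rfl
      obtain ⟨w, rfl⟩ := ihs (by omega) y
      haveI := hE 1 n le_rfl (by omega)
      obtain ⟨x, rfl⟩ := Ext.covariant_sequence_exact₂ _ hS₂ (w : Ext.{u + 1} _ S₂.X₂ n)
        (Subsingleton.elim (α := EtCoh.H Y ((EtCoh.Rpush f 1).obj M) n) _ _)
      exact ⟨_, key x⟩
    · refine (injective_iff_map_eq_zero _).2 fun z hz => ?_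
      obtain ⟨x, rfl⟩ := Ext.covariant_sequence_exact₁ _ hS₁ (z : Ext.{u + 1} _ S₁.X₁ (n + 1))
        (Ext.eq_zero_of_injective _) (n₀ := n) rfl
      obtain ⟨w, hw⟩ := Ext.covariant_sequence_exact₃ _ hT _ (n₁ := n + 1) rfl ((key x).symm.trans hz)
      obtain _ | n := n
      · obtain ⟨w', rfl⟩ := (bijective_HofPush_zero f T.X₂).2 w
        suffices x = w'.comp (Ext.mk₀ S₁.g) (add_zero 0) by
          rw [this, Ext.comp_assoc_of_second_deg_zero, hS₁.comp_extClass, Ext.comp_zero]
        have h1 := HofPush_nat f (𝟙 _) T.g 0 w'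
        rw [Category.id_comp, ← HofPush_eq] at h1
        have h2 := (bijective_HofPush_zero f T.X₃).1 ((h1.trans hw).symm)
        obtain ⟨φ, rfl⟩ := exists_mk₀ x
        obtain ⟨ψ, rfl⟩ := exists_mk₀ w'
        rw [Ext.mk₀_comp_mk₀] at h2 ⊢
        rw [Ext.mk₀_comp_mk₀] at h2
        refine congrArg Ext.mk₀ ((cancel_mono (kernel.ι d)).1 ?_)
        rw [(Ext.mk₀_bijective _ _).1 h2, Category.assoc]
        exact congrArg (ψ ≫ ·) (kernel.lift_ι d _ hgd).symm
      · rw [Ext.eq_zero_of_injective w, Ext.zero_comp] at hw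
        have h0 := ihi (by omega) (hw.symm.trans (map_zero (EtLim.HofPush f T.X₃ (n + 1))).symm)
        haveI := hE 1 n le_rfl (by omega)
        obtain ⟨v, hv⟩ := Ext.covariant_sequence_exact₁ _ hS₂ (x : Ext.{u + 1} _ S₂.X₁ (n + 1)) h0 (n₀ := n) rfl
        rw [← hv, Subsingleton.elim (α := EtCoh.H Y ((EtCoh.Rpush f 1).obj M) n) v 0, Ext.zero_comp, Ext.zero_comp]

end NearbySpecLib
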