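import Groth.Agent.NearbySmLib.Main
import Groth.Agent.NearbyCdLib.Slope
import Groth.Agent.EtRpushStalkLib.Iso
import Groth.Agent.S4079
import Groth.Agent.S0537

/-!
# Stalks of the higher direct images from the geometric generic fibre
-/

set_option autoImplicit false
set_option linter.all false
set_option backward.isDefEq.respectTransparency false
set_option backward.isDefEq.respectTransparency.types false
set_option synthInstance.maxHeartbeats 400000
set_option maxHeartbeats 1000000

universe u

open CategoryTheory CategoryTheory.Limits CategoryTheory.Abelian AlgebraicGeometry Opposite IsLocalRing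
open Groth.Agent Groth.Agent.EtShLib EtPBCProperLib DescSecLib EtRpushStalkLib

attribute [local instance] EtSliceLib.pullExact

noncomputable section

namespace NearbySpecLib

variable {V K Ω : Type u} [CommRing V] [IsDomain V] [IsDiscreteValuationRing V] [HenselianLocalRing V]
  [IsSepClosed (ResidueField V)] [Field K] [Algebra V K] [IsFractionRing V K]
  [Field Ω] [Algebra K Ω] [IsSepClosure K Ω] [Algebra V Ω] [IsScalarTower V K Ω]
  {X : Scheme.{u}} (f : X ⟶ Spec (CommRingCat.of V)) [LocallyOfFiniteType f] [QuasiCompact f]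

/-- Nearby cycles at a special point vanish above the generic dimension less the dimension of its closure. -/
theorem isZero_stalk_Rpush_high {m : ℕ} (hm : (m : ResidueField V) ≠ 0) {n : ℕ}
    (hn : topologicalKrullDim ↥(pullback f (Spec.map (CommRingCat.ofHom (algebraMap V K)))) ≤ n)
    (y : X) (hy : f.base y = closedPoint V) (k : ℕ) (hkn : k ≤ n)
    (hk : (k : WithBot ℕ∞) ≤ topologicalKrullDim ↥(closure ({y} : Set X))) (q : ℕ) (hq : n - k < q)
    {L : Type u} [Field L] [IsSepClosed L] (ξ : Spec (CommRingCat.of L) ⟶ X) (hξ : ξ.base default = y) :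
    IsZero ((EtCoh.stalk ξ).obj ((EtCoh.Rpush (pullback.fst f (Spec.map (CommRingCat.ofHom (algebraMap V Ω)))) q).obj
      ((EtCoh.pull (pullback.fst f (Spec.map (CommRingCat.ofHom (algebraMap V Ω))))).obj (EtCoh.const X (ZMod m))))) := by
  let v := Spec.map (CommRingCat.ofHom (algebraMap V Ω))
  let j := pullback.fst f v
  obtain ⟨R, _, _, _, _, hR⟩ := Groth.Agent.S0537.result (X.presheaf.stalk y)
  haveI := hR
  haveI : HenselianLocalRing R := hR.henselian
  haveI : IsSepClosed (ResidueField R) := hR.isSepClosure.sep_closed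
  obtain ⟨C⟩ := EtRpushStalkLib.exists_chart y R
  let g := Hens2.specOf X y R
  let w₀ := Spec.map (CommRingCat.ofHom (algebraMap (X.presheaf.stalk y) R)) ≫ X.fromSpecStalk y ≫ f
  let W := SGA7.nearbyFibre f y R Ω
  let p₁ : W ⟶ Spec (CommRingCat.of R) := pullback.fst w₀ v
  let p₂ : W ⟶ Spec (CommRingCat.of Ω) := pullback.snd w₀ v
  have sqW : IsPullback p₁ p₂ (g ≫ f) v := by
    simpa only [g, Hens2.specOf, Category.assoc] using IsPullback.of_hasPullback
      (Spec.map (CommRingCat.ofHom (algebraMap (X.presheaf.stalk y) R)) ≫ X.fromSpecStalk y ≫ f) v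
  let ct := IsPullback.of_hasPullback f v
  let b : W ⟶ pullback f v := ct.lift (p₁ ≫ g) p₂ ((Category.assoc _ _ _).trans sqW.w)
  have sq : IsPullback b p₁ j g :=
    IsPullback.of_right (((ct.lift_snd (p₁ ≫ g) p₂
      ((Category.assoc _ _ _).trans sqW.w)).symm ▸ sqW.flip)) (ct.lift_fst _ _ _) ct.flip
  haveI : IsAffineHom j := MorphismProperty.pullback_fst _ _ inferInstance
  obtain ⟨e'⟩ := EtRpushStalkLib.nonempty_iso j sq C q
  obtain ⟨e⟩ := nonempty_stk_iso_of_eq (A := AddCommGrpCat.{u + 1}) (ξ := closedPt R ≫ g) (ξ' := ξ) (by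
    rw [hξ, Scheme.Hom.comp_apply]
    exact ((congrArg g.base (SubmDescLib.closedPoint_map (residue R) residue_surjective _)).trans
      (LocAcycStalkLib.specOf_closedPoint y R)).symm)
  let E : (EtCoh.pull b).obj ((EtCoh.pull j).obj (EtCoh.const X (ZMod m))) ≅ EtCoh.const W (ZMod m) :=
    (EtCoh.pull b).mapIso ((EtCore.pullConstIso j).app _) ≪≫ (EtCore.pullConstIso b).app _
  haveI := Groth.Agent.S4079.result V K Ω m hm f n hn y hy k hkn hk R q hq
  refine IsZero.of_iso ?_ (e.symm.app _ ≪≫ e'.app _ ≪≫ (extFunctorObj _ q).mapIso E)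
  exact AddCommGrpCat.isZero_of_subsingleton (AddCommGrpCat.of
    (EtCoh.H W (EtCoh.const W (ZMod m)) q))

end NearbySpecLib
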