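import Groth.Agent.EtArtinLib.Main
import Groth.Agent.EtShriekBcLib.Dom
import Groth.Agent.CdFieldLib.Main
import Groth.Agent.FibDimLib.ClosureDim
import Groth.Agent.EtRpushStalkLib.Iso
import Groth.Agent.NearbyPtLib.Main
import Groth.Agent.S0156

/-!
# Cohomology of sheaves with small support on proper schemes over a strictly local base
-/

set_option autoImplicit false
set_option linter.all false
set_option backward.isDefEq.respectTransparency false
set_option backward.isDefEq.respectTransparency.types false
set_option synthInstance.maxHeartbeats 400000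
set_option maxHeartbeats 1000000

universe u

open CategoryTheory CategoryTheory.Limits CategoryTheory.Abelian AlgebraicGeometry Opposite IsLocalRing
open Groth.Agent Groth.Agent.EtShLib EtPBCProperLib SkySumLib

attribute [local instance] EtSliceLib.pullExact

noncomputable section

namespace NearbySpecLib

/-- Sheaves whose support has dimension at most `r` have no cohomology above `2 r`. -/
theorem subsingleton_H_support {K : Type u} [Field K] [IsSepClosed K] {W : Scheme.{u}}
    (ψ : W ⟶ Spec (CommRingCat.of K)) [LocallyOfFiniteType ψ] [QuasiCompact ψ] [QuasiSeparated ψ]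
    (r : ℕ) (F : EtCoh.Ab W) (hF : EtCoh.IsTorsion F)
    (hsupp : ∀ w ∈ EtPBC.supp F, topologicalKrullDim (closure ({w} : Set W)) ≤ (r : WithBot ℕ∞))
    (q : ℕ) (hq : 2 * r < q) : Subsingleton (EtCoh.H W F q) := by
  haveI : IsNoetherian W := CdFieldLib.isNoetherian_of_field ψ
  refine subsingleton_of_forall_eq 0 fun x => ?_
  obtain ⟨I, ι, _, hI, z, rfl⟩ := PTorsCdLib.exists_cons_sub F (torsionBy_of_isTorsion hF) q x
  let Z : Scheme.{u} := (Scheme.IdealSheafData.vanishingIdeal
    (⟨closure (EtPBC.supp I), isClosed_closure⟩ : TopologicalSpace.Closeds W)).subscheme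
  let i : Z ⟶ W := (Scheme.IdealSheafData.vanishingIdeal
    (⟨closure (EtPBC.supp I), isClosed_closure⟩ : TopologicalSpace.Closeds W)).subschemeι
  have hi : Set.range i.base = closure (EtPBC.supp I) := by
    rw [Scheme.IdealSheafData.range_subschemeι, Scheme.IdealSheafData.coe_support_vanishingIdeal]
    rfl
  have hdim : topologicalKrullDim Z ≤ (r : WithBot ℕ∞) := FibDimLib.topologicalKrullDim_le_of_points fun w => by
    have h1 : i.base w ∈ closure (EtPBC.supp I) := hi ▸ ⟨w, rfl⟩
    obtain ⟨y, hy, hyw⟩ := exists_specializes_supp hI h1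
    have hsub : closure ({i.base w} : Set W) ⊆ closure {y} :=
      closure_minimal (Set.singleton_subset_iff.2 hyw.mem_closure) isClosed_closure
    have himg : i.base '' closure {w} = closure ({i.base w} : Set W) := by
      rw [← i.isClosedEmbedding.closure_image_eq, Set.image_singleton]
    let e : ↥(closure ({w} : Set Z)) ≃ₜ ↥(closure ({i.base w} : Set W)) :=
      (i.isClosedEmbedding.isEmbedding.homeomorphImage _).trans (Homeomorph.setCongr himg)
    rw [IsHomeomorph.topologicalKrullDim_eq e e.isHomeomorph]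
    exact ((Topology.IsEmbedding.inclusion hsub).isInducing.topologicalKrullDim_le).trans
      (hsupp y (supp_subset_of_mono ι hy))
  have hZ : EtCoh.CohDimLE Z (2 * r + 0) :=
    CdFieldLib.cohDimLE_two_mul (i ≫ ψ) hdim (EtArtinLib.cohDimLE_sepClosed K)
  haveI : Subsingleton (EtCoh.H W I q) := by
    refine EtPBCCdLib.subsingleton_H_of_supported i I
      (fun Ω _ _ ξ hξ => isZero_stalk_of_notMem_supp ξ fun h => hξ ?_) q
      (hZ _ (CdCurveLib.isTorsion_pull_map i (isTorsion_of_torsionBy
        ((torsionBy_of_isTorsion hF).of_mono ι))) q (by omega))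
    rw [hi]
    exact subset_closure h
  rw [Subsingleton.elim (α := EtCoh.H W I q) z 0, Ext.zero_comp]

variable {V : Type u} [CommRing V] [HenselianLocalRing V] [IsSepClosed (ResidueField V)]

/-- Proper schemes over a strictly henselian ring: vanishing on the special fibre suffices. -/
theorem subsingleton_H_special {X : Scheme.{u}} (f : X ⟶ Spec (CommRingCat.of V)) [IsProper f]
    (G : EtCoh.Ab X) (hG : EtCoh.IsTorsion G) (n : ℕ)
    (h : Subsingleton (EtCoh.H (pullback f (Spec.map (CommRingCat.ofHom (residue V))))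
      ((EtCoh.pull (pullback.fst f (Spec.map (CommRingCat.ofHom (residue V))))).obj G) n)) :
    Subsingleton (EtCoh.H X G n) := by
  obtain ⟨a, ha, hS, hid⟩ := NearbyPtLib.exists_self_at (closedPoint V : Spec (CommRingCat.of V)) rfl
  letI := a.toAlgebra
  haveI : IsLocalHom (algebraMap ((Spec (CommRingCat.of V)).presheaf.stalk (closedPoint V)) V) := ha
  haveI := hS
  obtain ⟨C⟩ := EtRpushStalkLib.exists_chart (S := Spec (CommRingCat.of V)) (closedPoint V) V
  have sq : IsPullback (𝟙 X) f f (Hens2.specOf (Spec (CommRingCat.of V)) (closedPoint V) V) := by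
    rw [show Hens2.specOf (Spec (CommRingCat.of V)) (closedPoint V) V = 𝟙 _ from hid]
    exact IsPullback.of_horiz_isIso ⟨by simp⟩
  obtain ⟨e⟩ := EtRpushStalkLib.nonempty_iso f sq C n
  let ξ : Spec (CommRingCat.of (ResidueField V)) ⟶ Spec (CommRingCat.of V) := Spec.map (CommRingCat.ofHom (residue V))


  obtain ⟨e'⟩ := Groth.Agent.S0156.result f ξ G hG n
  obtain ⟨e''⟩ := nonempty_stk_iso_of_eq (A := AddCommGrpCat.{u + 1})
    (ξ := closedPt V ≫ Hens2.specOf (Spec (CommRingCat.of V)) (closedPoint V) V) (ξ' := ξ) (by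
      rw [show Hens2.specOf (Spec (CommRingCat.of V)) (closedPoint V) V = 𝟙 _ from hid, Category.comp_id])
  have h1 : IsZero ((EtCoh.stalk ξ).obj ((EtCoh.Rpush f n).obj G)) :=
    (haveI := h; AddCommGrpCat.isZero_of_subsingleton
      (AddCommGrpCat.of (EtCoh.H (pullback f ξ) ((EtCoh.pull (pullback.fst f ξ)).obj G) n))).of_iso e'
  have h2 : Subsingleton (EtCoh.H X ((EtCoh.pull (𝟙 X)).obj G) n) :=
    AddCommGrpCat.subsingleton_of_isZero ((h1.of_iso (e''.app _)).of_iso (e.app G).symm)
  exact @Equiv.subsingleton _ _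
    (((EtCoh.HF X n).mapIso ((EtShriekBcLib.pullIdAb X).app G)).addCommGroupIsoToAddEquiv).symm.toEquiv h2

end NearbySpecLib
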