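import Groth.Agent.NearbySpecLib.Leray
import Groth.Agent.NearbySpecLib.Support
import Groth.Agent.NearbySpecLib.Stalk
import Groth.Agent.EtBlowSqLib.Square
import Groth.Agent.EtFppfProperLib.Torsion
import Groth.Agent.EtCurveConsLib.Fibre
import Groth.Agent.S0404
import Groth.Agent.S4164

/-!
# Specialisation of cohomology in high degrees
-/

set_option autoImplicit false
set_option linter.all false
set_option backward.isDefEq.respectTransparency false
set_option backward.isDefEq.respectTransparency.types false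
set_option synthInstance.maxHeartbeats 400000
set_option maxHeartbeats 1000000

universe u

open CategoryTheory CategoryTheory.Limits CategoryTheory.Abelian AlgebraicGeometry Opposite IsLocalRing
open Groth.Agent Groth.Agent.EtShLib EtPBCProperLib

attribute [local instance] EtSliceLib.pullExact

noncomputable section

namespace NearbySpecLib

variable {V : Type u} [CommRing V] [HenselianLocalRing V] [IsSepClosed (ResidueField V)]
  {X : Scheme.{u}} (f : X ⟶ Spec (CommRingCat.of V))

abbrev special : pullback f (Spec.map (CommRingCat.ofHom (residue V))) ⟶ X :=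
  pullback.fst f (Spec.map (CommRingCat.ofHom (residue V)))

theorem special_over (w : ↑(pullback f (Spec.map (CommRingCat.ofHom (residue V))))) :
    f.base ((special f).base w) = closedPoint V := by
  rw [← Scheme.Hom.comp_apply, pullback.condition, Scheme.Hom.comp_apply]
  exact SubmDescLib.closedPoint_map (residue V) residue_surjective _

/-- Vanishing above twice the dimension of the special support. -/
theorem subsingleton_H_of_small [IsProper f] (G : EtCoh.Ab X) (hG : EtCoh.IsTorsion G) (r : ℕ)
    (h : ∀ (L : Type u) [Field L] [IsSepClosed L] (ξ : Spec (CommRingCat.of L) ⟶ X),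
      f.base (ξ.base default) = closedPoint V → ∀ c : ℕ,
        topologicalKrullDim ↥(closure ({ξ.base default} : Set X)) = (c : WithBot ℕ∞) → r < c →
          IsZero ((stk (A := AddCommGrpCat.{u + 1}) ξ).obj G))
    (p : ℕ) (hp : 2 * r < p) : Subsingleton (EtCoh.H X G p) := by
  let s := Spec.map (CommRingCat.ofHom (residue V))
  haveI : IsClosedImmersion s := IsClosedImmersion.spec_of_surjective _ residue_surjective
  refine subsingleton_H_special f G hG p ?_
  refine subsingleton_H_support (pullback.snd f s) r _ (CdCurveLib.isTorsion_pull_map _ hG) (fun w hw => ?_) p hp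
  obtain ⟨c, hc, -⟩ := EtArtinLib.exists_closureDim (pullback.snd f s) w
  rw [hc]
  by_contra hlt
  have hrc : r < c := by
    by_contra hle
    exact hlt (by exact_mod_cast (show c ≤ r by omega))
  obtain ⟨L, _, _, ξ', hr, hne⟩ := hw
  have hξ' : ξ'.base default = w := by
    have h1 : ξ'.base default ∈ Set.range ξ' := ⟨_, rfl⟩
    rwa [hr] at h1
  refine hne (EtBlowSq.stalkPull_zero (pullback.fst f s) G ξ' (h L (ξ' ≫ pullback.fst f s) ?_ c ?_ hrc))
  · rw [Scheme.Hom.comp_apply, hξ']
    exact special_over f w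
  · have himg : (pullback.fst f s).base '' closure {w} = closure ({(pullback.fst f s).base w} : Set X) := by
      rw [← (pullback.fst f s).isClosedEmbedding.closure_image_eq, Set.image_singleton]
    let e : ↥(closure ({w} : Set _)) ≃ₜ ↥(closure ({(pullback.fst f s).base w} : Set X)) :=
      ((pullback.fst f s).isClosedEmbedding.isEmbedding.homeomorphImage _).trans (Homeomorph.setCongr himg)
    rw [Scheme.Hom.comp_apply, hξ', ← IsHomeomorph.topologicalKrullDim_eq e e.isHomeomorph, hc]

/-- Vanishing in all degrees for sheaves without special stalks. -/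
theorem subsingleton_H_of_zero [IsProper f] (G : EtCoh.Ab X) (hG : EtCoh.IsTorsion G)
    (h : ∀ (L : Type u) [Field L] [IsSepClosed L] (ξ : Spec (CommRingCat.of L) ⟶ X),
      f.base (ξ.base default) = closedPoint V → IsZero ((stk (A := AddCommGrpCat.{u + 1}) ξ).obj G))
    (p : ℕ) : Subsingleton (EtCoh.H X G p) := by
  refine subsingleton_H_special f G hG p (EtBcBridgeLib.subsingleton_H_of_isZero ?_ p)
  refine isZero_of_geomPt_stalks _ fun y => ?_
  obtain ⟨R, _, _, _, _, hR⟩ := Groth.Agent.S0537.result ((pullback f (Spec.map (CommRingCat.ofHom (residue V)))).presheaf.stalk y)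
  haveI := hR.isSepClosure.sep_closed
  refine ⟨R, inferInstance, inferInstance, inferInstance, inferInstance, inferInstance,
    AddCommGrpCat.subsingleton_of_isZero (EtBlowSq.stalkPull_zero _ G _ (h _ _ ?_))⟩
  rw [Scheme.Hom.comp_apply]
  exact special_over f _

/-- Fibre dimension of the special fibre of a flat family. -/
theorem closureDim_special_le [IsDomain V] {K : Type u} [Field K] [Algebra V K] [IsFractionRing V K]
    [Flat f] [LocallyOfFinitePresentation f] [QuasiCompact f] [QuasiSeparated f] {n : ℕ}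
    (hn : topologicalKrullDim ↥(pullback f (Spec.map (CommRingCat.ofHom (algebraMap V K)))) ≤ n)
    (y : X) (hy : f.base y = closedPoint V) :
    topologicalKrullDim ↥(closure ({y} : Set X)) ≤ (n : WithBot ℕ∞) := by
  let v := Spec.map (CommRingCat.ofHom (algebraMap V K))
  haveI : IsPreimmersion v := IsPreimmersion.of_isLocalization (nonZeroDivisors V)
  let η : Spec (CommRingCat.of V) := v (closedPoint K)
  have hpre : topologicalKrullDim ↥(f.base ⁻¹' {η}) ≤ (n : WithBot ℕ∞) := by
    have hrange : Set.range (pullback.fst f v).base = f.base ⁻¹' {η} := by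
      rw [Scheme.Pullback.range_fst]
      congr 1
      ext z
      exact ⟨fun ⟨p, hp⟩ => by rw [← hp, Subsingleton.elim p (closedPoint K)]; rfl, fun hz => ⟨_, hz.symm⟩⟩
    let e : ↥(pullback f v) ≃ₜ ↥(f.base ⁻¹' {η}) :=
      (pullback.fst f v).isEmbedding.toHomeomorph.trans (Homeomorph.setCongr hrange)
    rw [← IsHomeomorph.topologicalKrullDim_eq e e.isHomeomorph]
    exact hn
  have hop := Groth.Agent.S0404.result f (n : WithBot ℕ∞)
  have hgen : η ∉ {s | (n : WithBot ℕ∞) < topologicalKrullDim (f.fiber s)} := fun h => by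
    rw [Set.mem_setOf_eq, IsHomeomorph.topologicalKrullDim_eq (f.fiberHomeo η) (f.fiberHomeo η).isHomeomorph] at h
    exact not_le.2 h hpre
  have hsp : η ⤳ closedPoint V := IsLocalRing.specializes_closedPoint η
  have h0 : topologicalKrullDim ↥(f.base ⁻¹' {(closedPoint V : Spec (CommRingCat.of V))}) ≤ (n : WithBot ℕ∞) := by
    rw [← IsHomeomorph.topologicalKrullDim_eq (f.fiberHomeo _) (f.fiberHomeo _).isHomeomorph]
    exact not_lt.1 fun h => hgen (hsp.mem_open hop h)
  refine le_trans ?_ h0
  refine (Topology.IsEmbedding.inclusion ?_).isInducing.topologicalKrullDim_le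
  refine closure_minimal (Set.singleton_subset_iff.2 hy) ?_
  exact (PrimeSpectrum.isClosed_singleton_iff_isMaximal _ |>.2 (maximalIdeal.isMaximal V)).preimage f.continuous

/-- Points off the smooth locus. -/
theorem closureDim_sing_le [LocallyOfFinitePresentation f] {d : ℕ}
    (hd : topologicalKrullDim {x : ↥X // f.base x = closedPoint V ∧ x ∉ f.smoothLocus} ≤ d)
    (y : X) (hy : f.base y = closedPoint V) (hy' : y ∉ f.smoothLocus) :
    topologicalKrullDim ↥(closure ({y} : Set X)) ≤ (d : WithBot ℕ∞) := by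
  refine le_trans ?_ hd
  refine (Topology.IsEmbedding.inclusion (t := {x : ↥X | f.base x = closedPoint V ∧ x ∉ f.smoothLocus}) ?_).isInducing.topologicalKrullDim_le
  refine closure_minimal (Set.singleton_subset_iff.2 ⟨hy, hy'⟩) (IsClosed.and ?_ f.smoothLocus.isOpen.isClosed_compl)
  exact (PrimeSpectrum.isClosed_singleton_iff_isMaximal _ |>.2 (maximalIdeal.isMaximal V)).preimage f.continuous

section Specialisation

variable {V K Ω : Type u} [CommRing V] [IsDomain V] [IsDiscreteValuationRing V] [HenselianLocalRing V]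
  [IsSepClosed (ResidueField V)] [Field K] [Algebra V K] [IsFractionRing V K]
  [Field Ω] [Algebra K Ω] [IsSepClosure K Ω] [Algebra V Ω] [IsScalarTower V K Ω]

theorem specialisation (m : ℕ) (hm : (m : ResidueField V) ≠ 0)
    {X : Scheme.{u}} (f : X ⟶ Spec (CommRingCat.of V)) [IsProper f] [Flat f] [LocallyOfFinitePresentation f]
    (n : ℕ) (hn : topologicalKrullDim ↥(pullback f (Spec.map (CommRingCat.ofHom (algebraMap V K)))) ≤ n)
    (d : ℕ) (hd : topologicalKrullDim {x : ↥X // f.base x = closedPoint V ∧ x ∉ f.smoothLocus} ≤ d) (i : ℕ) :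
    (n + d + 1 < i → Function.Bijective
      (EtCore.Hpull (pullback.fst f (Spec.map (CommRingCat.ofHom (algebraMap V Ω)))) (EtCoh.const X (ZMod m)) i)) ∧
    (i = n + d + 1 → Function.Surjective
      (EtCore.Hpull (pullback.fst f (Spec.map (CommRingCat.ofHom (algebraMap V Ω)))) (EtCoh.const X (ZMod m)) i)) := by
  haveI : IsSepClosed Ω := IsSepClosure.sep_closed K
  have hm0 : m ≠ 0 := fun h => hm (by simp [h])
  haveI : NeZero m := ⟨hm0⟩
  let j := pullback.fst f (Spec.map (CommRingCat.ofHom (algebraMap V Ω)))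
  haveI : IsAffineHom j := MorphismProperty.pullback_fst _ _ inferInstance
  let C := EtCoh.const X (ZMod m)
  let C' := (EtCoh.pull j).obj C
  let P := (EtCoh.push j).obj C'
  let u : C ⟶ P := (EtCoh.pullPushAdj j).unit.app C
  have hC : EtCoh.IsTorsion C := EtCurveConsLib.isTorsion_const X m
  have hC' : EtCoh.IsTorsion C' := CdCurveLib.isTorsion_pull_map j hC
  have hR : ∀ q, EtCoh.IsTorsion ((EtCoh.Rpush j q).obj C') := fun q =>
    EtShLib.isTorsion_rightDerived_push (f := j) hC' q
  have hP : EtCoh.IsTorsion P :=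
    EtFppfProperLib.isTorsion_of_epi ((EtCoh.push j).rightDerivedZeroIsoSelf.app C').hom (hR 0)
  have hu1 : IsUnit (m : V) := by
    rwa [← IsLocalRing.residue_ne_zero_iff_isUnit, map_natCast]
  -- no vanishing cycles on the smooth locus
  have hsm : ∀ (L : Type u) [Field L] [IsSepClosed L] (ξ : Spec (CommRingCat.of L) ⟶ X),
      f.base (ξ.base default) = closedPoint V → ξ.base default ∈ f.smoothLocus →
      IsIso ((stk (A := AddCommGrpCat.{u + 1}) ξ).map u) ∧
        ∀ q : ℕ, 0 < q → IsZero ((stk (A := AddCommGrpCat.{u + 1}) ξ).obj ((EtCoh.Rpush j q).obj C')) := by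
    intro L _ _ ξ h1 h2
    haveI : Smooth (f.smoothLocus.ι ≫ f) := by
      rw [← Scheme.Hom.smoothLocus_eq_top_iff, ← Scheme.Hom.preimage_smoothLocus_eq]
      exact Scheme.Opens.ι_preimage_self _
    exact NearbySmLib.stalks_of_smooth_at f f.smoothLocus ⟨_, h2⟩ h1 hu1 C
      (EtCurveConsLib.isLocallyConstant_const X m) (Groth.Agent.S4164.killedBy_of_nsmul_id (CdOneLib.nsmul_id_const m)) (algebraMap V Ω) j _
      (IsPullback.of_hasPullback f _) ξ rfl
  -- supports
  have hq : ∀ q, 1 ≤ q → ∀ p, n + d + 1 ≤ p + q → Subsingleton (EtCoh.H X ((EtCoh.Rpush j q).obj C') p) := by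
    intro q hq1 p hpq
    by_cases hqn : q ≤ n
    · refine subsingleton_H_of_small f _ (hR q) (min d (n - q)) (fun L _ _ ξ hξ c hc hrc => ?_) p (by omega)
      by_cases hs : ξ.base default ∈ f.smoothLocus
      · exact (hsm L ξ hξ hs).2 q hq1
      have hcd : c ≤ d := by
        have := closureDim_sing_le f hd _ hξ hs
        rw [hc] at this
        exact_mod_cast this
      have hcn : c ≤ n := by
        have := closureDim_special_le f hn _ hξ
        rw [hc] at this
        exact_mod_cast this
      exact isZero_stalk_Rpush_high f hm hn _ hξ c hcn hc.ge q (by omega) ξ rfl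
    · refine subsingleton_H_of_zero f _ (hR q) (fun L _ _ ξ hξ => ?_) p
      refine isZero_stalk_Rpush_high f hm hn _ hξ 0 (Nat.zero_le n) ?_ q (by omega) ξ rfl
      let a₀ : ↥(closure ({ξ.base default} : Set X)) := ⟨_, subset_closure rfl⟩
      haveI : Nonempty (TopologicalSpace.IrreducibleCloseds ↥(closure ({ξ.base default} : Set X))) :=
        ⟨⟨closure {a₀}, isIrreducible_singleton.closure, isClosed_closure⟩⟩
      exact_mod_cast Order.krullDim_nonneg
  have h0 : ∀ (G : EtCoh.Ab X), EtCoh.IsTorsion G → (∀ (L : Type u) [Field L] [IsSepClosed L]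
      (ξ : Spec (CommRingCat.of L) ⟶ X), IsIso ((stk (A := AddCommGrpCat.{u + 1}) ξ).map u) →
        IsZero ((stk (A := AddCommGrpCat.{u + 1}) ξ).obj G)) →
      ∀ p, n + d < p → Subsingleton (EtCoh.H X G p) := by
    intro G hG hz p hp
    refine subsingleton_H_of_small f G hG (min d n) (fun L _ _ ξ hξ c hc hrc => hz L ξ ?_) p (by omega)
    refine (hsm L ξ hξ (by
      by_contra hs
      have h1 := closureDim_sing_le f hd _ hξ hs
      have h2 := closureDim_special_le f hn _ hξ
      rw [hc] at h1 h2
      have h1' : c ≤ d := by exact_mod_cast h1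
      have h2' : c ≤ n := by exact_mod_cast h2
      omega)).1
  let π := Abelian.factorThruImage u
  let ι := Abelian.image.ι u
  haveI : Mono ι := inferInstanceAs (Mono (kernel.ι (cokernel.π u)))
  have hπι : π ≫ ι = u := Abelian.image.fac u
  let S₁ : ShortComplex (EtCoh.Ab X) := ShortComplex.mk (kernel.ι u) π ((cancel_mono ι).1 (by
    rw [Category.assoc, hπι, kernel.condition, zero_comp]))
  have hS₁ : S₁.ShortExact :=
    { exact := by
        refine ShortComplex.exact_of_f_is_kernel _ ?_
        refine KernelFork.IsLimit.ofι' _ _ fun t ht => ⟨kernel.lift u t ?_, kernel.lift_ι _ _ _⟩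
        show t ≫ u = 0
        rw [← hπι, ← Category.assoc]
        exact (congrArg (· ≫ ι) ht).trans zero_comp
      mono_f := inferInstanceAs (Mono (kernel.ι u))
      epi_g := inferInstanceAs (Epi (Abelian.factorThruImage u)) }
  let S₂ : ShortComplex (EtCoh.Ab X) := ShortComplex.mk ι (cokernel.π u) (kernel.condition _)
  have hS₂ : S₂.ShortExact :=
    { exact := ShortComplex.exact_of_f_is_kernel _ (kernelIsKernel _)
      mono_f := inferInstanceAs (Mono ι)
      epi_g := inferInstanceAs (Epi (cokernel.π u)) }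
  have hker : ∀ p, n + d < p → Subsingleton (EtCoh.H X (kernel u) p) :=
    h0 _ (EtBlowSq.isTorsion_of_mono (kernel.ι u) hC) fun L _ _ ξ hi =>
      haveI := hi
      (isZero_kernel_of_mono ((stk (A := AddCommGrpCat.{u + 1}) ξ).map u)).of_iso (PreservesKernel.iso _ u)
  have hcok : ∀ p, n + d < p → Subsingleton (EtCoh.H X (cokernel u) p) :=
    h0 _ (EtFppfProperLib.isTorsion_of_epi (cokernel.π u) hP) fun L _ _ ξ hi =>
      haveI := hi
      (isZero_cokernel_of_epi ((stk (A := AddCommGrpCat.{u + 1}) ξ).map u)).of_iso (PreservesCokernel.iso _ u)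
  -- the comparison
  have hfac : ⇑(EtCore.Hpull j C i) = ⇑(EtLim.HofPush j C' i) ∘
      fun x : EtCoh.H X C i => x.comp (Ext.mk₀ u) (add_zero i) := by
    funext x
    show EtCore.Hpull j C i x = (EtCore.Hpull j _ i (x.comp (Ext.mk₀ u) (add_zero i))).comp
      (Ext.mk₀ ((EtCoh.pullPushAdj j).counit.app _)) (add_zero i)
    rw [EtAcycLib.Hpull_postcomp, Ext.comp_assoc_of_second_deg_zero, Ext.mk₀_comp_mk₀]
    erw [(EtCoh.pullPushAdj j).left_triangle_components C]
    rw [Ext.comp_mk₀_id]
  have hcomp : ∀ x : Ext.{u + 1} (EtCoh.const X ℤ) C i,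
      x.comp (Ext.mk₀ u) (add_zero i) = (x.comp (Ext.mk₀ S₁.g) (add_zero i)).comp (Ext.mk₀ S₂.f) (add_zero i) :=
    fun x => by rw [Ext.comp_assoc_of_second_deg_zero, Ext.mk₀_comp_mk₀, hπι]
  have hsurj : n + d < i → Function.Surjective (fun x : EtCoh.H X C i => x.comp (Ext.mk₀ u) (add_zero i)) := by
    intro hi y
    obtain ⟨w, hw⟩ := Ext.covariant_sequence_exact₂ _ hS₂ (y : Ext.{u + 1} _ S₂.X₂ i)
      ((hcok i hi).elim _ _)
    obtain ⟨x, hx⟩ := Ext.covariant_sequence_exact₃ _ hS₁ (w : Ext.{u + 1} _ S₁.X₃ i) (n₁ := i + 1) rfl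
      ((hker (i + 1) (by omega)).elim _ _)
    exact ⟨x, (hcomp x).trans (by rw [hx, hw])⟩
  have hinj : n + d + 1 < i → ∀ x : Ext.{u + 1} (EtCoh.const X ℤ) C i, x.comp (Ext.mk₀ u) (add_zero i) = 0 → x = 0 := by
    intro hi x hx
    obtain ⟨i, rfl⟩ : ∃ k, i = k + 1 := ⟨i - 1, by omega⟩
    rw [hcomp] at hx
    obtain ⟨v, hv⟩ := Ext.covariant_sequence_exact₁ _ hS₂ _ hx (n₀ := i) rfl
    rw [(hcok i (by omega)).elim v 0, Ext.zero_comp] at hv
    obtain ⟨w, hw⟩ := Ext.covariant_sequence_exact₂ _ hS₁ x hv.symm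
    rw [← hw, (hker (i + 1) (by omega)).elim w 0, Ext.zero_comp]
  obtain ⟨es, ei⟩ := edge_range j i C' (n + d + 1) (fun q p h1 h2 => hq q h1 p h2)
  rw [hfac]
  refine ⟨fun hi => Function.Bijective.comp ⟨ei (Or.inl hi), es (by omega)⟩ ⟨?_, hsurj (by omega)⟩,
    fun hi => (es (by omega)).comp (hsurj (by omega))⟩
  intro a b hab
  refine sub_eq_zero.1 (hinj hi (a - b) ?_)
  have h := Ext.add_comp (a - b : Ext.{u + 1} (EtCoh.const X ℤ) C i) b (Ext.mk₀ u) (add_zero i)
  rw [sub_add_cancel] at h
  exact left_eq_add.1 ((add_comm _ _).trans h.symm |>.trans hab |>.symm)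

end Specialisation

end NearbySpecLib
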